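import Mathlib
import Cfsg.Agent.Lib.Classical.JordanChains

/-!
# The radical of a corner when the modules are projective relative to a cyclic group

If every module of a block is a summand of an induced module from a cyclic `p`-group, only
finitely many modules of bounded dimension are indecomposable; so the radical of a corner at a
primitive idempotent needs at most one generator.
-/

set_option linter.style.haveILetI false
set_option linter.unusedSectionVars false

namespace Cfsg.Agent.BlockCharsA.CyclicNilpotent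

open Module Cfsg.Agent.Classical.JordanChains

universe u v w

section Chains

variable {F : Type u} [Field F]

/-- The isomorphism types of nilpotent endomorphisms in dimension at most `n`. -/
abbrev Code (n : ℕ) : Type := Σ t : Fin (n + 1), Fin (t : ℕ) → Fin (n + 1)

/-- The lengths of the chains. -/
abbrev lens {n : ℕ} (c : Code n) : Fin (c.1 : ℕ) → ℕ := fun k => (c.2 k : ℕ)

/-- A nilpotent endomorphism has a type. -/
theorem exists_code {V : Type v} [AddCommGroup V] [Module F V] [FiniteDimensional F V]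
    (T : V →ₗ[F] V) (hT : IsNilpotent T) {n : ℕ} (hn : finrank F V ≤ n) :
    ∃ c : Code n, ∃ b : Basis (Idx (lens c)) F V, ∀ i : Idx (lens c), T (b i) =
      if h : (i.2 : ℕ) + 1 < lens c i.1 then b ⟨i.1, ⟨(i.2 : ℕ) + 1, h⟩⟩ else 0 := by
  classical
  obtain ⟨t, d, v, hv⟩ := exists_chainsOn T hT ⊤ (fun x _ => Submodule.mem_top)
  have hcard : Fintype.card (Idx d) ≤ n := hv.li.fintype_card_le_finrank.trans hn
  have ht : t ≤ n := by
    refine le_trans ?_ hcard
    calc t = Fintype.card (Fin t) := (Fintype.card_fin t).symm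
      _ ≤ Fintype.card (Idx d) := Fintype.card_le_of_injective
          (fun k => (⟨k, ⟨0, hv.pos k⟩⟩ : Idx d)) fun a b h => congrArg Sigma.fst h
  have hd : ∀ k, d k ≤ n := fun k => by
    refine le_trans ?_ hcard
    calc d k = Fintype.card (Fin (d k)) := (Fintype.card_fin _).symm
      _ ≤ Fintype.card (Idx d) := Fintype.card_le_of_injective
          (fun j => (⟨k, j⟩ : Idx d)) fun a b h => by simpa using h
  refine ⟨⟨⟨t, Nat.lt_succ_of_le ht⟩, fun k => ⟨d k, Nat.lt_succ_of_le (hd k)⟩⟩,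
    Basis.mk (v := fun i : Idx d => (T ^ (i.2 : ℕ)) (v i.1)) hv.li hv.span, fun i => ?_⟩
  obtain ⟨k, j⟩ := i
  rw [Basis.mk_apply, ← Module.End.mul_apply, ← pow_succ']
  split
  · rw [Basis.mk_apply]
  · next h =>
    have hj : (j : ℕ) + 1 = d k := le_antisymm j.2 (not_lt.1 h)
    rw [hj, hv.kill]

/-- Endomorphisms of one type are isomorphic. -/
theorem exists_intertwiner {V : Type v} [AddCommGroup V] [Module F V] {V' : Type w} [AddCommGroup V']
    [Module F V'] {T : V →ₗ[F] V} {T' : V' →ₗ[F] V'} {n : ℕ} (c : Code n)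
    (b : Basis (Idx (lens c)) F V) (b' : Basis (Idx (lens c)) F V')
    (hb : ∀ i : Idx (lens c), T (b i) =
      if h : (i.2 : ℕ) + 1 < lens c i.1 then b ⟨i.1, ⟨(i.2 : ℕ) + 1, h⟩⟩ else 0)
    (hb' : ∀ i : Idx (lens c), T' (b' i) =
      if h : (i.2 : ℕ) + 1 < lens c i.1 then b' ⟨i.1, ⟨(i.2 : ℕ) + 1, h⟩⟩ else 0) :
    ∃ Φ : V ≃ₗ[F] V', ∀ x, Φ (T x) = T' (Φ x) := by
  refine ⟨b.equiv b' (Equiv.refl _), fun x => ?_⟩
  have h : (b.equiv b' (Equiv.refl _)).toLinearMap.comp T =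
      T'.comp (b.equiv b' (Equiv.refl _)).toLinearMap := by
    refine b.ext fun i => ?_
    simp only [LinearMap.comp_apply, LinearEquiv.coe_coe, Basis.equiv_apply, Equiv.refl_apply,
      hb, hb']
    split
    · rw [Basis.equiv_apply, Equiv.refl_apply]
    · exact map_zero _
  exact LinearMap.congr_fun h x

end Chains

variable {F : Type u} [Field F] {𝒜 : Type v} [Ring 𝒜] [Algebra F 𝒜]
variable {G : Type w} [Group G]

/-- The elements whose two-sided products fall into `I` in the corner at `E`. -/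
def liftIdeal (E : 𝒜) (I : Submodule F 𝒜) : Submodule 𝒜 𝒜 where
  carrier := {x | ∀ y, E * (y * x) * E ∈ I}
  zero_mem' y := by simp
  add_mem' {a b} ha hb y := by
    rw [mul_add, mul_add, add_mul]
    exact I.add_mem (ha y) (hb y)
  smul_mem' r x hx y := by
    rw [smul_eq_mul, ← mul_assoc y]
    exact hx (y * r)

theorem mem_liftIdeal {E : 𝒜} {I : Submodule F 𝒜} {x : 𝒜} :
    x ∈ liftIdeal E I ↔ ∀ y, E * (y * x) * E ∈ I := Iff.rfl

set_option maxHeartbeats 1000000 in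
/-- In a block projective relative to a cyclic `p`-group the radical of a corner needs at most one
generator. -/
theorem exists_generator_of_relProj [Infinite F] [FiniteDimensional F 𝒜] [Finite G]
    (u : G →* 𝒜) (hspan : Submodule.span F (Set.range u) = ⊤)
    {D : Subgroup G} {g : G} (hD : ∀ d ∈ D, ∃ n : ℕ, d = g ^ n)
    (hnilg : IsNilpotent (u g - 1)) {e a : 𝒜} (hgD : g ∈ D)
    (ha : ∀ d ∈ D, u d * a = a * u d) [Fintype (G ⧸ D)]
    (htr : ∑ q : G ⧸ D, u q.out * a * u q.out⁻¹ = e)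
    {E : 𝒜} (hEE : E * E = E) (heE : e * E = E)
    {A N : Submodule F 𝒜} (hA : ∀ x, x ∈ A ↔ E * x = x ∧ x * E = x) (hNA : N ≤ A)
    (hNN : N * N ≤ N) (hE : ∀ c : F, c • E ∈ N → c = 0)
    (hres : ∀ x ∈ A, ∃ c : F, x - c • E ∈ N) :
    ∃ z ∈ N, N ≤ (F ∙ z) ⊔ N * N := by
  classical
  haveI := Fintype.ofFinite G
  by_contra hone
  push Not at hone
  set K := N * N with hK
  obtain ⟨a₁, ha₁, ha₁K⟩ := SetLike.not_le_iff_exists.1 (hone 0 N.zero_mem)
  have ha₁K' : a₁ ∉ K := fun h => ha₁K (Submodule.mem_sup_right h)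
  obtain ⟨a₂, ha₂, ha₂K⟩ := SetLike.not_le_iff_exists.1 (hone a₁ ha₁)
  have hind : ∀ c d : F, c • a₁ + d • a₂ ∈ K → c = 0 ∧ d = 0 := by
    intro c d h
    have hd : d = 0 := by
      by_contra hd
      refine ha₂K (Submodule.mem_sup.2 ⟨-(d⁻¹ * c) • a₁,
        Submodule.smul_mem _ _ (Submodule.mem_span_singleton_self _), d⁻¹ • (c • a₁ + d • a₂),
        K.smul_mem _ h, ?_⟩)
      rw [smul_add, smul_smul, smul_smul, inv_mul_cancel₀ hd, one_smul, neg_smul]
      abel
    refine ⟨by_contra fun hc => ha₁K' ?_, hd⟩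
    rw [hd, zero_smul, add_zero] at h
    have := K.smul_mem c⁻¹ h
    rwa [smul_smul, inv_mul_cancel₀ hc, one_smul] at this
  -- the family of ideals
  set I : F → Submodule F 𝒜 := fun c => K ⊔ (F ∙ (a₁ + c • a₂)) with hI
  have hIN : ∀ c, I c ≤ N := fun c => sup_le hNN
    ((Submodule.span_singleton_le_iff_mem _ _).2 (N.add_mem ha₁ (N.smul_mem c ha₂)))
  have hKI : ∀ c, K ≤ I c := fun c => le_sup_left
  have hIinj : ∀ c c', I c ≤ I c' → c = c' := by
    intro c c' h
    obtain ⟨k, hk, z, hz, hkz⟩ := Submodule.mem_sup.1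
      (h (Submodule.mem_sup_right (Submodule.mem_span_singleton_self (a₁ + c • a₂))))
    obtain ⟨r, rfl⟩ := Submodule.mem_span_singleton.1 hz
    obtain ⟨h1, h2⟩ := hind (1 - r) (c - r * c') (by
      convert hk using 1
      have hk' : k = a₁ + c • a₂ - r • (a₁ + c' • a₂) := by rw [← hkz, add_sub_cancel_right]
      rw [hk', sub_smul, sub_smul, one_smul, smul_add, smul_smul]
      abel)
    rw [← sub_eq_zero.1 h1, one_mul] at h2
    exact sub_eq_zero.1 h2
  have hleft : ∀ c, ∀ x ∈ I c, ∀ y, E * y * x ∈ I c := by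
    intro c x hx y
    obtain ⟨hx1, -⟩ := (hA x).1 (hNA (hIN c hx))
    rw [← hx1, ← mul_assoc]
    obtain ⟨r, hr⟩ := hres (E * y * E) ((hA _).2
      ⟨by rw [← mul_assoc, ← mul_assoc, hEE], by rw [mul_assoc, hEE]⟩)
    have h : E * y * E * x = r • x + (E * y * E - r • E) * x := by
      rw [sub_mul, smul_mul_assoc, hx1]
      abel
    rw [h]
    exact (I c).add_mem ((I c).smul_mem r hx) (hKI c (Submodule.mul_mem_mul hr (hIN c hx)))
  set J : F → Submodule 𝒜 𝒜 := fun c => liftIdeal E (I c) with hJ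
  have hdim : ∀ c, finrank F (𝒜 ⧸ J c) ≤ finrank F 𝒜 := fun c => by
    have hs : Function.Surjective ((J c).mkQ.restrictScalars F) := Submodule.mkQ_surjective _
    rw [← finrank_top F (𝒜 ⧸ J c), ← LinearMap.range_eq_top.2 hs]
    exact LinearMap.finrank_range_le _
  -- the types
  set act : ∀ c, 𝒜 →ₐ[F] Module.End F (𝒜 ⧸ J c) := fun c => Algebra.lsmul F F (𝒜 ⧸ J c)
  have hcode : ∀ c, ∃ κ : Code (finrank F 𝒜), ∃ b : Basis (Idx (lens κ)) F (𝒜 ⧸ J c),
      ∀ i : Idx (lens κ), act c (u g - 1) (b i) =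
        if h : (i.2 : ℕ) + 1 < lens κ i.1 then b ⟨i.1, ⟨(i.2 : ℕ) + 1, h⟩⟩ else 0 := fun c =>
    exists_code (act c (u g - 1)) (hnilg.map (act c)) (hdim c)
  choose κ b hb using hcode
  obtain ⟨κ₀, hκ₀⟩ := Finite.exists_infinite_fiber κ
  haveI : Infinite (κ ⁻¹' {κ₀}) := hκ₀
  set W₀ := Idx (lens κ₀) → F
  set T₀ : W₀ →ₗ[F] W₀ := (Pi.basisFun F (Idx (lens κ₀))).constr F fun i =>
    if h : (i.2 : ℕ) + 1 < lens κ₀ i.1 then Pi.basisFun F _ ⟨i.1, ⟨(i.2 : ℕ) + 1, h⟩⟩ else 0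
  have hΦ : ∀ c : κ ⁻¹' {κ₀}, ∃ Φ : (𝒜 ⧸ J (c : F)) ≃ₗ[F] W₀,
      ∀ x, Φ ((u g - 1) • x) = T₀ (Φ x) := by
    rintro ⟨c, hc⟩
    have hc' : κ c = κ₀ := hc
    have hb' : ∃ b' : Basis (Idx (lens κ₀)) F (𝒜 ⧸ J c), ∀ i : Idx (lens κ₀),
        act c (u g - 1) (b' i) =
          if h : (i.2 : ℕ) + 1 < lens κ₀ i.1 then b' ⟨i.1, ⟨(i.2 : ℕ) + 1, h⟩⟩ else 0 := by
      subst hc'
      exact ⟨b c, hb c⟩
    obtain ⟨b', hb'⟩ := hb'
    obtain ⟨Φ, hΦ⟩ := exists_intertwiner κ₀ b' (Pi.basisFun F _) (T' := T₀) hb' fun i => by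
      rw [Basis.constr_basis]
    exact ⟨Φ, fun x => hΦ x⟩
  choose Φ hΦ using hΦ
  set cls : ∀ c : F, 𝒜 → 𝒜 ⧸ J c := fun c => Submodule.Quotient.mk
  set vec : κ ⁻¹' {κ₀} → G → W₀ := fun c h => Φ c (u h • cls c E)
  obtain ⟨s, hs⟩ := Infinite.exists_subset_card_eq (κ ⁻¹' {κ₀}) (finrank F (G → W₀) + 1)
  have hdep : ¬ LinearIndependent F fun c : s => vec c := fun hh => by
    have := hh.fintype_card_le_finrank
    rw [Fintype.card_coe, hs] at this
    omega
  rw [Fintype.not_linearIndependent_iff] at hdep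
  obtain ⟨co, hco, j, hj⟩ := hdep
  -- the relative trace back to the member `j`
  set back : (G → W₀) →ₗ[F] 𝒜 ⧸ J (j : κ ⁻¹' {κ₀}) :=
    ∑ q : G ⧸ D, (act _ (u q.out * a)).comp ((Φ j).symm.toLinearMap.comp (LinearMap.proj q.out⁻¹))
  have hback : ∀ Fn, back Fn = ∑ q : G ⧸ D, (u q.out * a) • (Φ j).symm (Fn q.out⁻¹) := fun Fn => by
    simp [back, act, mul_smul]
  set f : ∀ c : s, (𝒜 ⧸ J ((c : κ ⁻¹' {κ₀}) : F)) →ₗ[F] 𝒜 ⧸ J ((j : κ ⁻¹' {κ₀}) : F) := fun c =>
    ∑ q : G ⧸ D, (act _ (u q.out * a)).comp ((Φ j).symm.toLinearMap.comp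
      ((Φ c).toLinearMap.comp (act _ (u q.out⁻¹))))
  have hfv : ∀ c w, f c w =
      ∑ q : G ⧸ D, (u q.out * a) • (Φ j).symm (Φ c (u q.out⁻¹ • w)) := fun c w => by
    simp [f, act, mul_smul]
  have hD' : ∀ c : κ ⁻¹' {κ₀}, ∀ d ∈ D, ∀ x, Φ c (u d • x) =
      Φ c (u d • (Φ c).symm (Φ c x)) := fun c d hd x => by rw [LinearEquiv.symm_apply_apply]
  have hcomm : ∀ (c c' : κ ⁻¹' {κ₀}) (d : G), d ∈ D → ∀ x,
      (Φ c').symm (Φ c (u d • x)) = u d • (Φ c').symm (Φ c x) := by
    intro c c' d hd x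
    obtain ⟨n, rfl⟩ := hD d hd
    induction n with
    | zero => simp
    | succ n ih =>
      specialize ih (pow_mem hgD n)
      rw [pow_succ', map_mul, mul_smul, mul_smul, ← ih]
      set y := u (g ^ n) • x
      apply (Φ c').injective
      rw [LinearEquiv.apply_symm_apply]
      have h1 := hΦ c y
      have h2 := hΦ c' ((Φ c').symm (Φ c y))
      rw [sub_smul, one_smul, map_sub] at h1 h2
      rw [LinearEquiv.apply_symm_apply] at h2
      exact sub_left_inj.1 (h1.trans h2.symm)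
  have hequiv : ∀ c h w, f c (u h • w) = u h • f c w := by
    intro c h w
    rw [hfv, hfv, Finset.smul_sum]
    refine (Fintype.sum_equiv (MulAction.toPerm h) _ _ fun q => ?_).symm
    show u h • ((u q.out * a) • (Φ j).symm (Φ c (u q.out⁻¹ • w))) =
      (u (h • q).out * a) • (Φ j).symm (Φ c (u (h • q).out⁻¹ • u h • w))
    obtain ⟨d, hd, hdq⟩ : ∃ d ∈ D, (h • q).out = h * q.out * d := by
      refine ⟨(h * q.out)⁻¹ * (h • q).out, ?_, by group⟩
      refine QuotientGroup.eq.1 ?_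
      rw [QuotientGroup.out_eq', ← smul_eq_mul h q.out, ← MulAction.Quotient.smul_coe,
        QuotientGroup.out_eq']
    rw [hdq, mul_inv_rev, ← mul_smul (u (d⁻¹ * (h * q.out)⁻¹)) (u h) w, ← map_mul,
      show d⁻¹ * (h * q.out)⁻¹ * h = d⁻¹ * q.out⁻¹ by group, map_mul u d⁻¹, mul_smul (u d⁻¹),
      hcomm _ _ _ (inv_mem hd), smul_smul, smul_smul]
    congr 1
    rw [map_mul, map_mul, mul_assoc (u h * u q.out) (u d) a, ha d hd]
    simp only [mul_assoc]
    rw [← map_mul u d, mul_inv_cancel, map_one, mul_one]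
  have hlin : ∀ c (x : 𝒜) w, f c (x • w) = x • f c w := by
    intro c x w
    have hx : x ∈ Submodule.span F (Set.range u) := hspan ▸ Submodule.mem_top
    induction hx using Submodule.span_induction with
    | mem y hy => obtain ⟨h, rfl⟩ := hy; exact hequiv c h w
    | zero => simp
    | add y z _ _ hy hz => rw [add_smul, add_smul, map_add, hy, hz]
    | smul r y _ hy => rw [smul_assoc, smul_assoc, map_smul, hy]
  -- the classes
  have hclsmul : ∀ c x y, x • cls c y = cls c (x * y) := fun c x y => rfl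
  have hclsub : ∀ c x y, cls c x = cls c y ↔ x - y ∈ J c := fun c x y => Submodule.Quotient.eq _
  have hJA : ∀ c x, x ∈ A → x ∈ J c → x ∈ I c := fun c x hx hxJ => by
    have := mem_liftIdeal.1 hxJ 1
    rwa [one_mul, ((hA x).1 hx).1, ((hA x).1 hx).2] at this
  have hIJ : ∀ c, ∀ x ∈ I c, x ∈ J c := fun c x hx => mem_liftIdeal.2 fun y => by
    rw [← mul_assoc, mul_assoc _ x, ((hA x).1 (hNA (hIN c hx))).2]
    exact hleft c x hx y
  have hEc : ∀ c y, E * (y * E) - E * y ∈ J c := fun c y => mem_liftIdeal.2 fun z => by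
    have h : E * (z * (E * (y * E) - E * y)) * E = 0 := by
      simp only [mul_sub, sub_mul, mul_assoc, hEE, sub_self]
    rw [h]
    exact (I c).zero_mem
  have hsoc : ∀ c : s, c ≠ j → ∃ n ∈ N, f c (cls _ E) = cls _ n := by
    intro c hc
    obtain ⟨Y, hY⟩ := Submodule.Quotient.mk_surjective _ (f c (cls _ E))
    have hY' : f c (cls _ E) = cls _ (E * (Y * E)) := by
      rw [(hclsub _ _ _).2 (hEc _ Y), ← hclsmul, show cls _ Y = f c (cls _ E) from hY, ← hlin,
        hclsmul, hEE]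
    have hmem : E * (Y * E) ∈ A := (hA _).2
      ⟨by rw [← mul_assoc, hEE], by rw [mul_assoc, mul_assoc, hEE]⟩
    obtain ⟨r, hr⟩ := hres _ hmem
    rcases eq_or_ne r 0 with rfl | hr0
    · exact ⟨_, hr, by rw [hY', zero_smul, sub_zero]⟩
    exfalso
    refine hc (Subtype.ext (Subtype.ext (hIinj _ _ fun x hx => ?_)))
    have hx0 : x • cls ((c : κ ⁻¹' {κ₀}) : F) E = 0 := by
      rw [hclsmul, ((hA x).1 (hNA (hIN _ hx))).2]
      exact (Submodule.Quotient.mk_eq_zero _).2 (hIJ _ x hx)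
    have h1 : x * (E * (Y * E)) ∈ J ((j : κ ⁻¹' {κ₀}) : F) := by
      refine (Submodule.Quotient.mk_eq_zero _).1 ?_
      show cls _ (x * (E * (Y * E))) = 0
      rw [← hclsmul, ← hY', ← hlin, hx0, map_zero]
    have hxA := hNA (hIN _ hx)
    have h2 : x * (E * (Y * E)) ∈ I ((j : κ ⁻¹' {κ₀}) : F) := hJA _ _ ((hA _).2
      ⟨by rw [← mul_assoc, ((hA x).1 hxA).1], by rw [mul_assoc, ((hA _).1 hmem).2]⟩) h1
    have h3 := (I _).sub_mem h2 (hKI _ (Submodule.mul_mem_mul (hIN _ hx) hr))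
    rw [mul_sub, sub_sub_cancel, mul_smul_comm, ((hA x).1 hxA).2] at h3
    have h4 := (I _).smul_mem r⁻¹ h3
    rwa [smul_smul, inv_mul_cancel₀ hr0, one_smul] at h4
  have hself : f j (cls _ E) = cls _ E := by
    rw [hfv]
    simp only [LinearEquiv.symm_apply_apply, smul_smul, ← Finset.sum_smul, htr]
    rw [hclsmul, heE]
  choose! nn hnn hfn using hsoc
  have hzero : ∑ c : s, co c • f c (cls _ E) = 0 := by
    have h := congrArg back hco
    rw [map_sum, map_zero] at h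
    rw [← h]
    refine Finset.sum_congr rfl fun c _ => ?_
    rw [map_smul, hback, hfv]
  rw [← Finset.add_sum_erase _ _ (Finset.mem_univ j), hself,
    Finset.sum_congr rfl (g := fun c => co c • cls _ (nn c)) fun c hc => by
      rw [hfn c (Finset.ne_of_mem_erase hc)]] at hzero
  set r := ∑ c ∈ Finset.univ.erase j, co c • nn c
  have hrN : r ∈ N := Submodule.sum_mem _ fun c hc => N.smul_mem _ (hnn c (Finset.ne_of_mem_erase hc))
  have hmemJ : co j • E + r ∈ J ((j : κ ⁻¹' {κ₀}) : F) := by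
    refine (Submodule.Quotient.mk_eq_zero _).1 ?_
    rw [← hzero, Submodule.Quotient.mk_add, ← Submodule.mkQ_apply _ r, map_sum]
    rfl
  have hmemI := hIN _ (hJA _ _ (A.add_mem (A.smul_mem _ ((hA E).2 ⟨hEE, hEE⟩)) (hNA hrN)) hmemJ)
  have := N.sub_mem hmemI hrN
  rw [add_sub_cancel_right] at this
  exact hj (hE _ this)

end Cfsg.Agent.BlockCharsA.CyclicNilpotent
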